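import Cfsg.Agent.Lib.E11.A
import Cfsg.Agent.Lib.Sig.Bender
import Cfsg.Agent.Lib.Inv.Misc
import Cfsg.Agent.Lib.BG.T03_1

/-! `2F`-modules for groups `p² : 2-group` and `p^{1+2} : 2-group`. -/

set_option autoImplicit false
set_option linter.unusedSectionVars false

namespace Cfsg.Lib.QX

open Cfsg Subgroup Cfsg.Lib.Transfer Cfsg.Lib.BG
open scoped commutatorElement

variable {G : Type*} [Group G] [Finite G] {B P S U V W : Subgroup G} {b e g x y z y₁ y₂ y₃ : G} {p : ℕ}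

theorem mem_of_sq {K : Subgroup G} (hp : Odd p) (h1 : x ^ p = 1) (h : x * x ∈ K) : x ∈ K := by
  obtain ⟨k, rfl⟩ := hp
  have := pow_mem h (k + 1)
  rwa [← sq, ← pow_mul, show 2 * (k + 1) = 2 * k + 1 + 1 by ring, pow_succ, h1, one_mul] at this

theorem bound (hp : Odd p) (hU : U ≤ V) (hx : x ∈ 𝐍(V)) (h1 : x ^ p = 1) (hb : b * x * b⁻¹ = x⁻¹) (h0 : U ⊓ 𝐂[x] = ⊥) :
    Nat.card U ≤ 𝐂[b].relIndex V ^ 2 := by
  have le : 𝐂[b] ⊓ x ⋆ 𝐂[b] ≤ 𝐂[x] := fun w hw => mem_cent1_symm (mem_of_sq hp h1 (by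
    have := mul_mem (mem_cent1_symm (conj_cent1 x b ▸ hw.2)) (inv_mem (mem_cent1_symm hw.1))
    rwa [show x * b * x⁻¹ * b⁻¹ = x * (b * x * b⁻¹)⁻¹ by group, hb, inv_inv] at this))
  have := relIndex_inf_le (H := 𝐂[b]) (K := x ⋆ 𝐂[b]) (L := V)
  rw [← conj_eq_of_norm hx, relIndex_conj, conj_eq_of_norm hx, ← sq] at this
  refine le_trans ?_ ((relIndex_le_of_le_right hU FiniteIndex.index_ne_zero).trans this)
  rw [← inf_relIndex_right, eq_bot_iff.2 ((inf_le_inf_right U le).trans ((inf_comm _ _).trans h0).le), relIndex_bot_left]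

theorem square (hp : Odd p) (hU : IsElementaryAbelian 2 U) (hx : x ∈ 𝐍(U)) (hn : b ∈ 𝐍(U)) (h2 : b * b = 1) (h1 : x ^ p = 1)
    (hb : b * x * b⁻¹ = x⁻¹) (h0 : U ⊓ 𝐂[x] = ⊥) : ∃ c, Nat.card U = c ^ 2 := by
  have e1 := bound hp le_rfl hx h1 hb h0
  have e2 := Inv.card_le_sq_of_inv hU h2 hn
  have e3 := BG.card_mul_relIndex (inf_le_left : U ⊓ 𝐂[b] ≤ U)
  rw [inf_relIndex_left] at e3
  have e4 : 0 < Nat.card ↥(U ⊓ 𝐂[b]) := Nat.card_pos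
  have e5 : 0 < 𝐂[b].relIndex U := Nat.pos_of_ne_zero FiniteIndex.index_ne_zero
  refine ⟨Nat.card ↥(U ⊓ 𝐂[b]), ?_⟩
  rw [← e3] at e1 e2 ⊢
  rw [sq, le_antisymm (Nat.le_of_mul_le_mul_left (e2.trans (sq _).le) e4) (Nat.le_of_mul_le_mul_right (e1.trans (sq _).le) e5)]

theorem fpf_sup (hV : V ≤ 𝐂(V)) (h1 : U ≤ V) (h2 : W ≤ V) (n1 : x ∈ 𝐍(U)) (n2 : x ∈ 𝐍(W)) (e1 : U ⊓ 𝐂[x] = ⊥)
    (e2 : W ⊓ 𝐂[x] = ⊥) (e : U ⊓ W = ⊥) : (U ⊔ W) ⊓ 𝐂[x] = ⊥ := by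
  refine eq_bot_iff.2 fun g hg => ?_
  obtain ⟨u, hu, w, hw, rfl⟩ := (mem_sup_left_norm (norm_of_cent (cent_mono hV h2 h1))).1 hg.1
  have h3 := mem_cent1.1 hg.2
  have h4 : u⁻¹ * (x * u * x⁻¹) = w * (x * w * x⁻¹)⁻¹ := by
    rw [show u⁻¹ * (x * u * x⁻¹) = u⁻¹ * (x * (u * w)) * w⁻¹ * x⁻¹ by group, ← h3]; group
  have h5 : u⁻¹ * (x * u * x⁻¹) = 1 := mem_bot.1 (e.le ⟨U.mul_mem (inv_mem hu) (conj_mem_of_norm n1 hu),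
    h4 ▸ W.mul_mem hw (inv_mem (conj_mem_of_norm n2 hw))⟩)
  rw [mem_bot.1 (e1.le ⟨hu, mem_cent1.2 (by rw [← mul_inv_eq_iff_eq_mul.1 (inv_mul_eq_one.1 h5).symm])⟩),
    mem_bot.1 (e2.le ⟨hw, mem_cent1.2 (by rw [← mul_inv_eq_iff_eq_mul.1 (mul_inv_eq_one.1 (h4 ▸ h5)).symm])⟩), mul_one]
  exact one_mem _

theorem card_sup (hV : V ≤ 𝐂(V)) (h1 : U ≤ V) (h2 : W ≤ V) (e : U ⊓ W = ⊥) :
    Nat.card ↥(U ⊔ W) = Nat.card U * Nat.card W := (SD.of_norm (norm_of_cent (cent_mono hV h2 h1)) e).card.symm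

/-- `x` and `y` normalize `V`, commute and have no common fixed point. -/
structure Ind (V : Subgroup G) (x y : G) : Prop where
  n1 : x ∈ 𝐍(V)
  n2 : y ∈ 𝐍(V)
  cm : x * y = y * x
  bot : V ⊓ 𝐂[x] ⊓ 𝐂[y] = ⊥

theorem Ind.nrm (h : Ind V x y) : y ∈ 𝐍(V ⊓ 𝐂[x]) :=
  zpowers_le.1 (norm_inf (zpowers_le.2 h.n2) (norm_cent1 (zpowers_le.2 (mem_cent1.2 h.cm.symm))))

theorem Ind.inf (h : Ind V x y) : V ⊓ 𝐂[x] ⊓ (V ⊓ 𝐂[y]) = ⊥ := eq_bot_iff.2 ((inf_le_inf_left _ inf_le_right).trans h.bot.le)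

theorem two (hV : V ≤ 𝐂(V)) (h12 : Ind V y₁ y₂) (h1 : Ind V y₁ x) (h2 : Ind V y₂ x) :
    (V ⊓ 𝐂[y₁] ⊔ V ⊓ 𝐂[y₂]) ⊓ 𝐂[x] = ⊥ := fpf_sup hV inf_le_left inf_le_left h1.nrm h2.nrm h1.bot h2.bot h12.inf

theorem le_two (hp : Odd p) (hV : V ≤ 𝐂(V)) (h0 : x ^ p = 1) (hb : b * x * b⁻¹ = x⁻¹) (h12 : Ind V y₁ y₂) (h1 : Ind V y₁ x)
    (h2 : Ind V y₂ x) : Nat.card ↥(V ⊓ 𝐂[y₁]) * Nat.card ↥(V ⊓ 𝐂[y₂]) ≤ 𝐂[b].relIndex V ^ 2 :=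
  card_sup hV inf_le_left inf_le_left h12.inf ▸ bound hp (sup_le inf_le_left inf_le_left) h1.n2 h0 hb (two hV h12 h1 h2)

theorem le_three (hp : Odd p) (hV : V ≤ 𝐂(V)) (h0 : x ^ p = 1) (hb : b * x * b⁻¹ = x⁻¹) (h12 : Ind V y₁ y₂) (h13 : Ind V y₁ y₃)
    (h23 : Ind V y₂ y₃) (h : V ⊓ 𝐂[x] = ⊥ ∧ x ∈ 𝐍(V) ∨ Ind V y₁ x ∧ Ind V y₂ x ∧ Ind V y₃ x) :
    Nat.card ↥(V ⊓ 𝐂[y₁]) * Nat.card ↥(V ⊓ 𝐂[y₂]) * Nat.card ↥(V ⊓ 𝐂[y₃]) ≤ 𝐂[b].relIndex V ^ 2 := by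
  have e := eq_bot_iff.2 ((inf_le_inf_left _ (inf_le_right : V ⊓ 𝐂[y₃] ≤ _)).trans (two hV h12 h13 h23).le)
  have l : V ⊓ 𝐂[y₁] ⊔ V ⊓ 𝐂[y₂] ≤ V := sup_le inf_le_left inf_le_left
  rw [← card_sup hV inf_le_left inf_le_left h12.inf, ← card_sup hV l inf_le_left e]
  rcases h with h | ⟨h1, h2, h3⟩
  · exact bound hp (sup_le l inf_le_left) h.2 h0 hb (eq_bot_iff.2 ((inf_le_inf_right _ (sup_le l inf_le_left)).trans h.1.le))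
  · exact bound hp (sup_le l inf_le_left) h1.n2 h0 hb (fpf_sup hV l inf_le_left (zpowers_le.1 (norm_sup (zpowers_le.2 h1.nrm)
      (zpowers_le.2 h2.nrm))) h3.nrm (two hV h12 h1 h2) h3.bot e)

theorem size (hp : p.Prime) (hV : IsElementaryAbelian 2 V) (h0 : x ^ p = 1) (h : Ind V y x) (h1 : V ⊓ 𝐂[y] ≠ ⊥) :
    ∃ k, 0 < k ∧ Nat.card ↥(V ⊓ 𝐂[y]) = 2 ^ k ∧ p ∣ 2 ^ k - 1 := by
  have := Fact.mk hp
  obtain ⟨k, hk⟩ := IsPGroup.iff_card.1 (pgroup_of_le (elab_pgroup hV) (inf_le_left : V ⊓ 𝐂[y] ≤ V))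
  have hx : x ≠ 1 := fun e => h1 (by rw [← h.bot, e]; simp)
  have o : Nat.card (zpowers x) = p := (Nat.card_zpowers x).trans (orderOf_eq_prime h0 hx)
  refine ⟨k, Nat.pos_of_ne_zero fun e => card_ne_one h1 (by rw [hk, e]; rfl), hk, ?_⟩
  rw [← hk, ← o]
  exact regular_norm_dvd_pred (zpowers_le.2 h.nrm) fun z hz h2 => by
    rw [cent1_eq_of_prime (o ▸ hp) hz h2, cent_zpowers, h.bot]

theorem card_conj_cent (hg : g ∈ 𝐍(V)) (y : G) : Nat.card ↥(V ⊓ 𝐂[g * y * g⁻¹]) = Nat.card ↥(V ⊓ 𝐂[y]) := by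
  rw [← conj_cent1, ← card_conj g (V ⊓ 𝐂[y]), conj_inf, conj_eq_of_norm hg]

theorem idx_two (hp : p.Prime) (hW : Nat.card W = p) (hB : B ≤ 𝐍(W)) (h2 : ∀ b ∈ B, b * b = 1) : 𝐂(W).relIndex B ≤ 2 := by
  refine Nat.le_of_dvd two_pos (index_dvd_two_iff.2 ?_)
  by_cases h : B ≤ 𝐂(W)
  · exact ⟨1, fun b => .inr (h b.2)⟩
  obtain ⟨a, ha, h⟩ := SetLike.not_le_iff_exists.1 h
  refine ⟨⟨a, ha⟩, fun b => or_iff_not_imp_right.2 fun h' => mem_cent.2 fun w hw => ?_⟩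
  have e1 := E11.inv_of_sq hp hW (hB ha) (h2 a ha ▸ one_mem _) h hw
  have e2 := E11.inv_of_sq hp hW (hB b.2) (h2 b b.2 ▸ one_mem _) h' (inv_mem hw)
  change w * (b.1 * a) = b.1 * a * w
  rw [show b.1 * a * w = b.1 * (a * w * a⁻¹) * b.1⁻¹ * (b.1 * a) by group, e1, e2, inv_inv]

theorem inv_zp (h : b * x * b⁻¹ = x⁻¹) (hy : y ∈ zpowers x) : b * y * b⁻¹ = y⁻¹ := by
  obtain ⟨k, rfl⟩ := mem_zpowers_iff.1 hy
  rw [← conj_zpow, h, inv_zpow]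

theorem inv_mul' (h : x * y = y * x) (h1 : b * x * b⁻¹ = x⁻¹) (h2 : b * y * b⁻¹ = y⁻¹) : b * (x * y) * b⁻¹ = (x * y)⁻¹ := by
  rw [show b * (x * y) * b⁻¹ = b * x * b⁻¹ * (b * y * b⁻¹) by group, h1, h2, h, mul_inv_rev]

/-- Elementary abelian 2-subgroups of `GL₂(p)`. -/
theorem gl2 (hp : p.Prime) (ho : Odd p) (hW : W ≤ 𝐂(W)) (h1 : ∀ w ∈ W, w ^ p = 1)
    (gen : ∀ e ∈ W, ∀ y ∈ W, e ≠ 1 → y ∉ zpowers e → W ≤ zpowers e ⊔ zpowers y) (hB : B ≤ 𝐍(W)) (h2 : ∀ b ∈ B, b * b = 1)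
    (hc : B ≤ 𝐂(B)) (hf : B ⊓ 𝐂(W) = ⊥) :
    Nat.card B ≤ 2 ∨ Nat.card B ≤ 4 ∧ ∃ b ∈ B, ∀ w ∈ W, b * w * b⁻¹ = w⁻¹ := by
  have := Fact.mk hp
  have e0 : 𝐂(W).relIndex B = Nat.card B := by rw [← inf_relIndex_left, hf, relIndex_bot_left]
  by_cases h : ∀ b ∈ B, b ∉ 𝐂(W) → ∀ w ∈ W, b * w * b⁻¹ = w⁻¹
  · refine .inl (e0 ▸ Nat.le_of_dvd two_pos (index_dvd_two_iff.2 ?_))
    by_cases h' : B ≤ 𝐂(W)
    · exact ⟨1, fun b => .inr (h' b.2)⟩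
    obtain ⟨a, ha, h'⟩ := SetLike.not_le_iff_exists.1 h'
    refine ⟨⟨a, ha⟩, fun b => or_iff_not_imp_right.2 fun h'' => mem_cent.2 fun w hw => ?_⟩
    change w * (b.1 * a) = b.1 * a * w
    rw [show b.1 * a * w = b.1 * (a * w * a⁻¹) * b.1⁻¹ * (b.1 * a) by group, h a ha h' w hw, h _ b.2 h'' _ (inv_mem hw), inv_inv]
  push Not at h
  obtain ⟨a, ha, c1, w, hw, c2⟩ := h
  obtain ⟨v, hv, c3⟩ : ∃ v ∈ W, v * a ≠ a * v := by simpa [mem_cent] using c1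
  have cw := le_cent_iff.1 hW
  have ai : a⁻¹ = a := inv_eq_of_mul_eq_one_right (h2 a ha)
  have aa : ∀ u : G, a * (a * u * a⁻¹) * a⁻¹ = u := fun u => by
    rw [show a * (a * u * a⁻¹) * a⁻¹ = (a * a) * u * (a * a)⁻¹ by group, h2 a ha]; group
  set e := w * (a * w * a⁻¹)
  set f := v * (a * v * a⁻¹)⁻¹
  have he : e ∈ W := mul_mem hw (conj_mem_of_norm (hB ha) hw)
  have hf' : f ∈ W := mul_mem hv (inv_mem (conj_mem_of_norm (hB ha) hv))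
  have e1 : e ≠ 1 := fun h => c2 (eq_inv_of_mul_eq_one_right h)
  have f1 : f ≠ 1 := fun h => c3 (by rw [← mul_inv_eq_iff_eq_mul.1 (mul_inv_eq_one.1 h).symm])
  have ae : a * e * a⁻¹ = e := by
    rw [show a * e * a⁻¹ = a * w * a⁻¹ * (a * (a * w * a⁻¹) * a⁻¹) by simp only [e]; group, aa,
      cw _ (conj_mem_of_norm (hB ha) hw) _ hw]
  have af : a * f * a⁻¹ = f⁻¹ := by
    rw [show a * f * a⁻¹ = a * v * a⁻¹ * (a * (a * v * a⁻¹) * a⁻¹)⁻¹ by simp only [f]; group, aa]; simp only [f]; group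
  have ce : a ∈ 𝐂(zpowers e) := cent_zpowers e ▸ mem_cent1.2 (mul_inv_eq_iff_eq_mul.1 ae)
  have fe : ∀ y ∈ zpowers e, a * y * a⁻¹ = y⁻¹ → y ∈ W → y = 1 := fun y hy h hy' => mem_bot.1 (mem_of_sq ho (h1 y hy') (by
    rw [← mem_cent.1 ce y hy, mul_inv_cancel_right] at h
    exact mem_bot.2 (mul_eq_one_iff_eq_inv.2 h)))
  have g := gen e he f hf' e1 fun h => f1 (fe f h af hf')
  have oe : Nat.card (zpowers e) = p := (Nat.card_zpowers e).trans (orderOf_eq_prime (h1 e he) e1)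
  have of : Nat.card (zpowers f) = p := (Nat.card_zpowers f).trans (orderOf_eq_prime (h1 f hf') f1)
  have cb : ∀ b ∈ B, ∀ u : G, a * (b * u * b⁻¹) * a⁻¹ = b * (a * u * a⁻¹) * b⁻¹ := fun b hb u => by
    rw [show a * (b * u * b⁻¹) * a⁻¹ = (a * b) * u * (a * b)⁻¹ by group, le_cent_iff.1 hc a ha b hb]; group
  have ne : B ≤ 𝐍(zpowers e) := fun b hb => mem_normalizer_of_conj_le (by
    rw [conj_zpowers, zpowers_le]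
    exact by_contra fun h => c1 (cent_symm ((gen e he _ (conj_mem_of_norm (hB hb) he) e1 h).trans (sup_le (cent_symm
      (zpowers_le.2 ce)) (zpowers_le.2 (cent_zpowers a ▸ mem_cent1.2 (mul_inv_eq_iff_eq_mul.1
        ((cb b hb e).trans (by rw [ae]))).symm)))) (mem_zpowers a)))
  have nf : B ≤ 𝐍(zpowers f) := fun b hb => mem_normalizer_of_conj_le (by
    rw [conj_zpowers, zpowers_le]
    refine by_contra fun h => e1 (fe e (mem_zpowers e) ?_ he)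
    have hy := conj_mem_of_norm (hB hb) hf'
    obtain ⟨r, hr, s, hs, q⟩ := (mem_sup_left_norm (norm_of_cent (cent_mono hW (zpowers_le.2 hy)
      (zpowers_le.2 hf')))).1 (gen f hf' _ hy f1 h he)
    exact q ▸ inv_mul' (cw _ (zpowers_le.2 hf' hr) _ (zpowers_le.2 hy hs)) (inv_zp af hr)
      (inv_zp (by rw [cb b hb, af]; group) hs))
  have le : 𝐂(zpowers e) ⊓ 𝐂(zpowers f) ≤ 𝐂(W) := (cent_sup _ _).ge.trans (cent_anti g)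
  by_cases hb : B ≤ 𝐂(zpowers e)
  · exact .inl (e0 ▸ (relIndex_le_of_le_left le FiniteIndex.index_ne_zero).trans (by
      rw [← inf_relIndex_left, ← inf_assoc, inf_of_le_left hb, inf_relIndex_left]
      exact idx_two hp of nf h2))
  refine .inr ⟨e0 ▸ ((relIndex_le_of_le_left le FiniteIndex.index_ne_zero).trans relIndex_inf_le).trans
    (Nat.mul_le_mul (idx_two hp oe ne h2) (idx_two hp of nf h2)), ?_⟩
  obtain ⟨b, hb, h⟩ := SetLike.not_le_iff_exists.1 hb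
  have key : ∀ b ∈ B, b ∉ 𝐂(zpowers e) → b ∉ 𝐂(zpowers f) → ∀ w ∈ W, b * w * b⁻¹ = w⁻¹ := fun b hb k1 k2 w hw => by
    obtain ⟨r, hr, s, hs, rfl⟩ := (mem_sup_left_norm (norm_of_cent (cent_mono hW (zpowers_le.2 hf') (zpowers_le.2 he)))).1 (g hw)
    exact inv_mul' (cw _ (zpowers_le.2 he hr) _ (zpowers_le.2 hf' hs)) (E11.inv_of_sq hp oe (ne hb) (h2 b hb ▸ one_mem _) k1 hr)
      (E11.inv_of_sq hp of (nf hb) (h2 b hb ▸ one_mem _) k2 hs)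
  by_cases h' : b ∈ 𝐂(zpowers f)
  · exact ⟨b * a, mul_mem hb ha, key _ (mul_mem hb ha) (fun k => h ((mul_mem_cancel_right ce).1 k)) fun k => c1 (le ⟨ce,
      (mul_mem_cancel_left h').1 k⟩)⟩
  · exact ⟨b, hb, key b hb h h'⟩

end Cfsg.Lib.QX
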