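import Cfsg.Agent.Lib.QX.A
import Cfsg.Agent.Lib.QT.Xi

/-! Groups `p²` and `p^{1+2}` with an irreducible group of automorphisms. -/

set_option autoImplicit false
set_option linter.unusedSectionVars false

namespace Cfsg.Lib.QX

open Cfsg Subgroup Cfsg.Lib.Transfer Cfsg.Lib.BG
open scoped commutatorElement

variable {G : Type*} [Group G] [Finite G] {A B N P S U V W : Subgroup G} {b c e f g x y z : G} {n p : ℕ}

theorem sec (hp : p.Prime) (h1 : f ^ p = 1) (hf : f ∉ N) (hN : f ∈ 𝐍(N)) (hg : g ∈ 𝐍(N)) (hA : g ∈ 𝐍(N ⊔ zpowers f))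
    (hn : g ^ n ∈ 𝐂(N ⊔ zpowers f)) (hc : n.Coprime (p - 1)) : ⁅N ⊔ zpowers f, zpowers g⁆ ≤ N := by
  have := Fact.mk hp
  have l := sup_le_norm_left (zpowers_le.2 hN)
  have o : Nat.card (zpowers f) = p := (Nat.card_zpowers f).trans (orderOf_eq_prime h1 fun e => hf (e ▸ one_mem _))
  rw [commutator_comm, ← quo_le_cent_iff (zpowers_le.2 hg) l, QT.quo_zpowers hg, zpowers_le]
  refine E11.cent_of_coprime hp ?_ (zpowers_le.1 (QT.quo_zpowers hg ▸ quo_norm (zpowers_le.2 hA) N)) ?_ hc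
  · rw [quo_sup_self (zpowers_le.2 hN), card_quo_of_disjoint (zpowers_le.2 hN) ((inf_comm _ _).trans
      (inf_eq_bot_of_prime (o ▸ hp) fun e => hf (e (mem_zpowers f)))), o]
  · rw [← map_pow]
    exact zpowers_le.1 (QT.quo_zpowers (pow_mem hg n) ▸ quo_cent (zpowers_le.2 hn) N)

structure PX (p : ℕ) (S P : Subgroup G) : Prop where
  prime : p.Prime
  odd : Odd p
  expo : ∀ x ∈ P, x ^ p = 1
  ncyc : ∀ e ∈ P, ¬ P ≤ ⁅P, P⁆ ⊔ zpowers e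
  gen : ∀ e ∈ P, ∀ y ∈ P, e ∉ ⁅P, P⁆ → y ∉ ⁅P, P⁆ ⊔ zpowers e → P ≤ ⁅P, P⁆ ⊔ zpowers e ⊔ zpowers y
  fz : ∀ z ∈ ⁅P, P⁆, z ≠ 1 → ⁅P, P⁆ ≤ zpowers z
  cen : ⁅P, P⁆ ≤ 𝐂(P)
  norm : S ≤ 𝐍(P)
  dich : ∀ Y ≤ P, P ≤ 𝐍(Y) → S ≤ 𝐍(Y) → P ≤ Y ∨ Y ≤ ⁅P, P⁆

namespace PX
variable (h : PX p S P)
include h

theorem pg : IsPGroup p P := fun x => ⟨1, Subtype.ext (by simpa using h.expo x x.2)⟩

theorem gen' (he : e ∈ P) (hy : y ∈ P) (h1 : e ∉ ⁅P, P⁆) (h2 : y ∉ ⁅P, P⁆ ⊔ zpowers e) : P ≤ zpowers e ⊔ zpowers y :=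
  have := Fact.mk h.prime
  Sig.nil_le_of_le_sup_der (pgroup_nil h.pg) (sup_le (zpowers_le.2 he) (zpowers_le.2 hy))
    ((h.gen e he y hy h1 h2).trans ((sup_assoc _ _ _).trans (sup_comm _ _)).le)

theorem cent' (hg : g ∈ 𝐍(P)) (hn : g ^ n ∈ 𝐂(P)) (hc : n.Coprime p) (h1 : ⁅⁅P, zpowers g⁆, zpowers g⁆ ≤ ⁅P, P⁆) : g ∈ 𝐂(P) := by
  have := Fact.mk h.prime
  obtain ⟨y, hy, z, hz, o1, o2, e, -⟩ := exists_pi_decomp {p} g
  have c1 : y ∈ 𝐂(P) := by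
    obtain ⟨k, rfl⟩ := mem_zpowers_iff.1 hy
    obtain ⟨m, hm⟩ := (PiNat.p_iff (orderOf_pos _).ne').1 o1
    have := zpow_mem hn k
    rw [← zpow_natCast, ← zpow_mul, mul_comm, zpow_mul, zpow_natCast] at this
    exact zpowers_le.2 this (mem_zpowers_pow_iff.2 (hm ▸ hc.pow_right m))
  have cp := (PiElt.zpowers o2).coprime_pgroup h.pg
  have nz := zpowers_le.2 (zpowers_le.2 hg hz)
  have l := zpowers_le.2 hz
  rw [e]
  refine mul_mem c1 (zpowers_le.1 (cent_symm ((Sig.nil_le_of_le_sup_der (pgroup_nil h.pg) inf_le_left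
    ((coprime_le_sup_cent (der_le P) cp (.inr (pgroup_sol h.pg)) ?_).trans (sup_comm _ _).le)).trans inf_le_right)))
  rw [← coprime_commGid nz cp]
  exact (commutator_mono (commutator_mono le_rfl l) l).trans h1

theorem cent (hg : g ∈ 𝐍(P)) (hn : g ^ n ∈ 𝐂(P)) (hc : n.Coprime p) (h1 : ∀ x ∈ P, g * x * g⁻¹ * x⁻¹ ∈ ⁅P, P⁆) : g ∈ 𝐂(P) := by
  have nF := norm_der (zpowers_le.2 hg)
  refine h.cent' hg hn hc ((commutator_mono ?_ le_rfl).trans (comm_le_left nF))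
  rw [commutator_comm]
  exact (Loc.le_relCent.1 (zpowers_le.2 (Loc.mem_relCent.2 ⟨zpowers_le.1 nF, h1⟩))).2

theorem nl (he : e ∈ P) : P ≤ 𝐍(⁅P, P⁆ ⊔ zpowers e) := (Nml.of_der_le le_sup_left (sup_le (der_le P) (zpowers_le.2 he))).norm

theorem fix (hg : g ∈ 𝐍(P)) (hn : g ^ n ∈ 𝐂(P)) (hc : n.Coprime p) (hc' : n.Coprime (p - 1)) (he : e ∈ P) (h1 : e ∉ ⁅P, P⁆)
    (h2 : g * e * g⁻¹ ∈ ⁅P, P⁆ ⊔ zpowers e) : g ∈ 𝐂(P) := by
  obtain ⟨f, hf, h3⟩ := SetLike.not_le_iff_exists.1 (h.ncyc e he)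
  have l : ⁅P, P⁆ ⊔ zpowers e ≤ P := sup_le (der_le P) (zpowers_le.2 he)
  have e1 := le_antisymm (sup_le l (zpowers_le.2 hf)) (h.gen e he f hf h1 h3)
  have nF := zpowers_le.1 (norm_der (zpowers_le.2 hg))
  have nL : g ∈ 𝐍(⁅P, P⁆ ⊔ zpowers e) := mem_normalizer_of_conj_le (by
    rw [conj_sup, conj_eq_of_norm nF, conj_zpowers]
    exact sup_le le_sup_left (zpowers_le.2 h2))
  have := sec h.prime (h.expo f hf) h3 (h.nl he hf) nL (e1.symm ▸ hg) (e1.symm ▸ hn) hc'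
  rw [e1] at this
  exact h.cent' hg hn hc ((commutator_mono this le_rfl).trans (sec h.prime (h.expo e he) h1 (norm_der (le_norm P) he) nF nL
    (cent_anti l hn) hc'))

theorem sym (he : e ∈ P) (hy : y ∈ P) (h1 : y ∉ ⁅P, P⁆) (h2 : y ∈ ⁅P, P⁆ ⊔ zpowers e) : e ∈ ⁅P, P⁆ ⊔ zpowers y :=
  by_contra fun h3 => h.ncyc e he ((h.gen y hy e he h1 h3).trans (sup_le (sup_le le_sup_left (zpowers_le.2 h2)) le_sup_right))

theorem exinv (hb : b ∈ 𝐍(P)) (h2 : b * b = 1) (h1 : b ∉ 𝐂(P)) : ∃ x ∈ P, x ∉ ⁅P, P⁆ ∧ b * x * b⁻¹ = x⁻¹ := by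
  obtain ⟨g, hg, e⟩ : ∃ g ∈ P, b * g * b⁻¹ * g⁻¹ ∉ ⁅P, P⁆ := by
    by_contra! e
    exact h1 (h.cent (n := 2) hb (by rw [sq, h2]; exact one_mem _) (Nat.coprime_two_left.2 h.odd) e)
  refine ⟨_, mul_mem (conj_mem_of_norm hb hg) (inv_mem hg), e, ?_⟩
  rw [show b * (b * g * b⁻¹ * g⁻¹) * b⁻¹ = b * b * g * (b * b)⁻¹ * (b * g⁻¹ * b⁻¹) by group, h2]
  group

theorem four (hB : B ≤ 𝐍(P)) (h2 : ∀ b ∈ B, b * b = 1) (hc : B ≤ 𝐂(B)) (hf : B ⊓ 𝐂(P) = ⊥) : Nat.card B ≤ 4 := by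
  have := Fact.mk h.prime
  have n1 := norm_der (le_norm P)
  have n2 := norm_der hB
  have d : ⁅P, P⁆ ⊓ B = ⊥ := eq_bot_iff.2 ((inf_comm _ _).le.trans ((inf_le_inf_left B h.cen).trans hf.le))
  have := gl2 (W := quo P ⁅P, P⁆) (B := quo B ⁅P, P⁆) h.prime h.odd ((quo_le_cent_iff n1 n1).2 le_rfl) (fun w hw => by
      obtain ⟨w, hw', rfl⟩ := mem_quo.1 hw
      rw [← map_pow, show w ^ p = 1 from Subtype.ext (h.expo _ hw'), map_one]) (fun e he' y hy' h1 h3 => by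
      obtain ⟨e, he, rfl⟩ := mem_quo.1 he'
      obtain ⟨y, hy, rfl⟩ := mem_quo.1 hy'
      rw [← QT.quo_zpowers e.2] at h3 ⊢
      rw [← QT.quo_zpowers y.2, ← quo_sup (zpowers_le.2 e.2) (zpowers_le.2 y.2)]
      refine quo_mono (h.gen' he hy (fun k => h1 ((QuotientGroup.eq_one_iff _).2 k)) fun k => h3 ?_) _
      rw [← quo_sup_self (zpowers_le.2 e.2)]
      exact mem_quo.2 ⟨y, k, rfl⟩) (quo_norm hB _) (fun w hw => by
      obtain ⟨w, hw', rfl⟩ := mem_quo.1 hw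
      rw [← map_mul, show w * w = 1 from Subtype.ext (h2 _ hw'), map_one]) (quo_cent hc _) (eq_bot_iff.2 fun w hw => by
      obtain ⟨w, k, rfl⟩ := mem_quo.1 hw.1
      have k2 := (quo_le_cent_iff (zpowers_le.2 w.2) n1).1 (QT.quo_zpowers w.2 ▸ zpowers_le.2 hw.2)
      rw [show w = 1 from Subtype.ext (mem_bot.1 (hf.le ⟨k, h.cent (n := 2) (hB k) (by rw [sq, h2 _ k]; exact one_mem _)
        (Nat.coprime_two_left.2 h.odd) fun x hx => k2 (comm_mem_comm (mem_zpowers _) hx)⟩)), map_one]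
      exact one_mem _)
  rw [card_quo_of_disjoint n2 d] at this
  omega

theorem nonab (hV : IsElementaryAbelian 2 V) (h0 : V ≠ ⊥) (hP : P ≤ 𝐍(V)) (hF : ⁅P, P⁆ ≠ ⊥) (hc : V ⊓ 𝐂(⁅P, P⁆) = ⊥)
    (hx : x ∈ P) (h1 : x ∉ ⁅P, P⁆) (hb : b * x * b⁻¹ = x⁻¹) (hd : 𝐂[b].relIndex V ≤ 16) : p = 3 := by
  have := Fact.mk h.prime
  have fp : ∀ z ∈ ⁅P, P⁆, z ≠ 1 → V ⊓ 𝐂[z] = ⊥ := fun z hz e => eq_bot_iff.2 ((inf_le_inf_left V
    ((cent_zpowers z).ge.trans (cent_anti (h.fz z hz e)))).trans hc.le)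
  have cz : ∀ z ∈ ⁅P, P⁆, ∀ g ∈ P, g * z = z * g := fun z hz => mem_cent.1 (h.cen hz)
  obtain ⟨e, he, e1, e2⟩ : ∃ e ∈ P, V ⊓ 𝐂[e] ≠ ⊥ ∧ (V ⊓ 𝐂[x] = ⊥ ∨ e = x) ∧ e ≠ 1 := by
    by_cases k : V ⊓ 𝐂[x] = ⊥
    swap
    · exact ⟨x, hx, k, .inr rfl, fun e => h1 (e ▸ one_mem _)⟩
    have l : ⁅P, P⁆ ⊔ zpowers x ≤ P := sup_le (der_le P) (zpowers_le.2 hx)
    obtain ⟨e, he, e1, e2⟩ := coprime_abelian_exists_cent1 (A := ⁅P, P⁆ ⊔ zpowers x) (abelian_sup (abelian_iff.2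
      (h.cen.trans (cent_anti (der_le P)))) inferInstance (h.cen.trans (cent_anti (zpowers_le.2 hx)))) (fun k => by
        obtain ⟨g, hg, e⟩ := cyclic_iff.1 k
        obtain ⟨z, hz, z1⟩ := exists_ne_one hF
        have g1 : g ≠ 1 := fun k => z1 (by simpa [k] using e.ge (mem_sup_left hz))
        have := zpowers_eq_of_prime (A := zpowers g) (by
          rw [Nat.card_zpowers, orderOf_eq_prime (h.expo g (l hg)) g1]; exact h.prime) (e.ge (mem_sup_left hz)) z1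
        exact h1 (zpowers_le.2 hz (this.ge (e.ge (mem_sup_right (mem_zpowers x)))))) (l.trans hP)
      (coprime_pgroups (pgroup_of_le h.pg l) (elab_pgroup hV) (by rintro rfl; exact absurd h.odd (by decide))) h0
    exact ⟨e, l he, e2, .inl k, e1⟩
  have e3 : e ∉ ⁅P, P⁆ := fun k => e1 (fp e k e2.2)
  obtain ⟨g, hg, e4⟩ : ∃ g ∈ P, g * e * g⁻¹ * e⁻¹ ≠ 1 := by
    by_contra! k
    obtain ⟨f, hf, h3⟩ := SetLike.not_le_iff_exists.1 (h.ncyc e he)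
    exact hF (abelian_iff_der.1 (abelian_of_le (abelian_sup inferInstance inferInstance (cent_zpowers f ▸ zpowers_le.2 (mem_cent1.2
      (by rw [← mul_inv_eq_iff_eq_mul.1 (mul_inv_eq_one.1 (k f hf))])))) (h.gen' he hf e3 h3)))
  set c := g * e * g⁻¹ * e⁻¹
  have hc' : c ∈ ⁅P, P⁆ := comm_mem_comm hg he
  have ind : ∀ i j : ℕ, i < j → j < p → Ind V (c ^ j * e) (c ^ i * e) := fun i j l1 l2 =>
    ⟨hP (mul_mem (pow_mem (der_le P hc') _) he), hP (mul_mem (pow_mem (der_le P hc') _) he), by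
      rw [mul_assoc, mul_assoc, ← mul_assoc e, ← mul_assoc e, cz _ (pow_mem hc' i) e he, cz _ (pow_mem hc' j) e he,
        ← mul_assoc, ← mul_assoc, ← mul_assoc, ← mul_assoc, pow_mul_comm], eq_bot_iff.2 fun v hv =>
      (fp (c ^ (j - i)) (pow_mem hc' _) (pow_ne_one_of_lt_orderOf (by omega) (by
        rw [orderOf_eq_prime (h.expo c (der_le P hc')) e4]; omega))).le ⟨hv.1.1, mem_cent1_symm (by
          have := mul_mem (mem_cent1_symm hv.1.2) (inv_mem (mem_cent1_symm hv.2))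
          rwa [mul_inv_rev, ← mul_assoc, mul_inv_cancel_right, ← pow_sub _ l1.le] at this)⟩⟩
  have cd : ∀ i : ℕ, Nat.card ↥(V ⊓ 𝐂[c ^ i * e]) = Nat.card ↥(V ⊓ 𝐂[e]) := fun i => by
    induction i with
    | zero => rw [pow_zero, one_mul]
    | succ i ih =>
      rw [← ih, ← card_conj_cent (hP hg) (c ^ i * e), ← mul_assoc g, cz _ (pow_mem hc' i) g hg, pow_succ]
      congr 4
      simp only [c]; group
  by_contra h3
  have p5 : 5 ≤ p := h.prime.five_le_of_ne_two_of_ne_three (by rintro rfl; exact absurd h.odd (by decide)) h3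
  have := le_three h.odd (abelian_cent hV.1) (h.expo x hx) hb (ind 2 3 (by omega) (by omega)) (ind 1 3 (by omega) (by omega))
    (ind 1 2 (by omega) (by omega)) (e2.1.imp (⟨·, hP hx⟩) fun k => by
      have := And.intro (ind 0 3 (by omega) (by omega)) (And.intro (ind 0 2 (by omega) (by omega)) (ind 0 1 (by omega) (by omega)))
      rwa [pow_zero, one_mul, show ∀ a, Ind V a e ↔ Ind V a x from fun _ => k ▸ Iff.rfl,
        show ∀ a, Ind V a e ↔ Ind V a x from fun _ => k ▸ Iff.rfl, show ∀ a, Ind V a e ↔ Ind V a x from fun _ => k ▸ Iff.rfl] at this)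
  obtain ⟨k, k0, k1, k2⟩ := size h.prime hV (h.expo _ (mul_mem (pow_mem (der_le P hc') 0) he)) (ind 0 1 (by omega) (by omega))
    fun k => e1 (card_eq_one.1 ((cd 1).symm.trans (card_eq_one.2 k)))
  rw [cd] at k1
  rw [cd, cd, cd, k1, ← pow_add, ← pow_add] at this
  have k3 := (Nat.pow_le_pow_iff_right one_lt_two).1 ((this.trans (Nat.pow_le_pow_left hd 2)).trans (le_of_eq (by norm_num : _ = 2 ^ 8)))
  have k4 : k ≤ 2 := by omega
  interval_cases k <;> have := Nat.le_of_dvd (by norm_num) k2 <;> omega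

end PX

end Cfsg.Lib.QX
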