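import Cfsg.Agent.Lib.QX.B

/-! The module lemma. -/

set_option autoImplicit false
set_option linter.unusedSectionVars false

namespace Cfsg.Lib.QX

open Cfsg Subgroup Cfsg.Lib.Transfer Cfsg.Lib.BG
open scoped commutatorElement

variable {G : Type*} [Group G] [Finite G] {A B N P S U V W : Subgroup G} {b c e f g x y z : G} {n p : ℕ}

theorem num {k c : ℕ} (hp : p.Prime) (k0 : 0 < k) (h : p ∣ 2 ^ k - 1) (h1 : 2 ^ k ≤ 16) (h2 : 2 ^ k = c ^ 2 ∨ 2 ^ k ≤ 4) :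
    p = 3 ∨ p = 5 := by
  have k3 : k ≤ 4 := (Nat.pow_le_pow_iff_right one_lt_two).1 h1
  have := hp.two_le
  have h3 := Nat.le_of_dvd (Nat.sub_pos_of_lt (Nat.one_lt_two_pow k0.ne')) h
  have h4 : c ≤ 4 ∨ 5 ≤ c := by omega
  interval_cases k
  · omega
  · interval_cases p <;> omega
  · rcases h4 with h4 | h4
    · interval_cases c <;> omega
    · rcases h2 with h2 | h2 <;> nlinarith
  · interval_cases p <;> first | omega | exact absurd hp (by norm_num)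

theorem num5 {k : ℕ} (k0 : 0 < k) (h : 5 ∣ 2 ^ k - 1) : 16 ≤ 2 ^ k := by
  by_contra h1
  have k3 : k < 4 := (Nat.pow_lt_pow_iff_right one_lt_two).1 (not_le.1 h1)
  interval_cases k <;> omega

namespace PX
variable (h : PX p S P) (hF : ⁅P, P⁆ = ⊥) (hP : P ≤ 𝐍(V)) (hc : V ⊓ 𝐂(P) = ⊥)
include h hF

theorem sym' (he : e ∈ P) (hy : y ∈ P) (h1 : y ≠ 1) (h2 : y ∈ zpowers e) : e ∈ zpowers y := by
  simpa [hF] using h.sym he hy (by simpa [hF] using h1) (by simpa [hF] using h2)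

include hP hc

theorem ind (he : e ∈ P) (hy : y ∈ P) (h1 : e ≠ 1) (h2 : y ∉ zpowers e) : Ind V e y :=
  ⟨hP he, hP hy, le_cent_iff.1 (comm_eq_bot_iff.1 hF) e he y hy, eq_bot_iff.2 (le_trans (by
    rw [inf_assoc, ← cent_zpowers, ← cent_zpowers, ← cent_sup]
    exact inf_le_inf_left V (cent_anti (h.gen' he hy (by simpa [hF] using h1) (by simpa [hF] using h2)))) hc.le)⟩

theorem ind' (he : e ∈ P) (hy : y ∈ P) (h1 : y ≠ 1) (h2 : e ∉ zpowers y) : Ind V e y :=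
  h.ind hF hP hc he hy (fun k => h2 (k ▸ one_mem _)) fun k => h2 (h.sym' hF he hy h1 k)

theorem ab (hV : IsElementaryAbelian 2 V) (h0 : V ≠ ⊥) (hS : S ≤ 𝐍(V)) (hb : b ∈ 𝐍(P)) (hb' : b ∈ 𝐍(V)) (h2 : b * b = 1)
    (hd : b ∉ 𝐂(P) ∧ 𝐂[b].relIndex V ≤ 4 ∨ (∀ w ∈ P, b * w * b⁻¹ = w⁻¹) ∧ 𝐂[b].relIndex V ≤ 16) :
    p = 3 ∨ p = 5 ∧ ∀ y ∈ 𝐍(P), y ∈ 𝐍(V) → ∀ r, Odd r → r.Coprime 5 → y ^ r ∈ 𝐂(P) → y ∈ 𝐂(P) := by
  have := Fact.mk h.prime
  have cV := abelian_cent hV.1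
  have cP := comm_eq_bot_iff.1 hF
  obtain ⟨e, he, e1, e2⟩ := coprime_abelian_exists_cent1 (abelian_iff.2 cP) (fun k => let ⟨g, hg, k⟩ := cyclic_iff.1 k
    h.ncyc g hg (k.ge.trans le_sup_right)) hP
    (coprime_pgroups h.pg (elab_pgroup hV) (by rintro rfl; exact absurd h.odd (by decide))) h0
  obtain ⟨t, ht, e3⟩ : ∃ t ∈ S, t * e * t⁻¹ ∉ zpowers e := by
    by_contra! k
    rcases h.dich _ (zpowers_le.2 he) (norm_of_cent (cP.trans (cent_anti (zpowers_le.2 he)))) (fun t ht =>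
      mem_normalizer_of_conj_le (by rw [conj_zpowers]; exact zpowers_le.2 (k t ht))) with k | k
    · exact h.ncyc e he (k.trans le_sup_right)
    · exact e1 (by simpa [hF] using k)
  have c1 : ∀ {g e : G}, e ≠ 1 → g * e * g⁻¹ ≠ 1 := fun k k' => k (by simpa using k')
  have ht' := conj_mem_of_norm (h.norm ht) he
  obtain ⟨k, k0, k1, k2⟩ := size h.prime hV (h.expo _ ht') (h.ind hF hP hc he ht' e1 e3) e2
  have el : ∀ y, IsElementaryAbelian 2 (V ⊓ 𝐂[y] : Subgroup G) := fun y => elab_of_le hV inf_le_left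
  have sqr : ∀ {e x : G}, e ∈ P → x ∈ P → b * e * b⁻¹ ∈ zpowers e → b * x * b⁻¹ = x⁻¹ → Ind V e x →
      ∃ c, Nat.card ↥(V ⊓ 𝐂[e]) = c ^ 2 := fun {e x} he hx k1 k2 k3 => square h.odd (el e) k3.nrm (zpowers_le.1 (norm_inf
        (zpowers_le.2 hb') (cent_zpowers e ▸ norm_cent (zpowers_le.2 (mem_normalizer_of_conj_le (by
          rw [conj_zpowers]; exact zpowers_le.2 k1)))))) h2 (h.expo x hx) k2 k3.bot
  have tri : p = 5 → ∀ y ∈ 𝐍(P), ∀ r, Odd r → r.Coprime 5 → y ^ r ∈ 𝐂(P) → y ∉ 𝐂(P) →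
      y * e * y⁻¹ ∉ zpowers e ∧ y * (y * e * y⁻¹) * y⁻¹ ∉ zpowers e ∧ y * (y * e * y⁻¹) * y⁻¹ ∉ zpowers (y * e * y⁻¹) :=
    fun p5 y hy r r1 r2 r3 r4 => by
      have r5 : r.Coprime (p - 1) := p5 ▸ (Nat.coprime_two_right.2 r1).pow_right 2
      have fx : ∀ g ∈ 𝐍(P), g ^ r ∈ 𝐂(P) → ∀ e ∈ P, e ≠ 1 → g * e * g⁻¹ ∈ zpowers e → g ∈ 𝐂(P) := fun g hg k e he k1 k2 =>
        h.fix hg k (p5 ▸ r2) r5 he (by simpa [hF] using k1) (mem_sup_right k2)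
      refine ⟨fun k => r4 (fx y hy r3 e he e1 k), fun k => r4 ?_, fun k => r4 (fx y hy r3 _ (conj_mem_of_norm hy he) (c1 e1) k)⟩
      have := fx (y * y) (mul_mem hy hy) (by rw [← sq, ← pow_mul, mul_comm, pow_mul]; exact pow_mem r3 2) e he e1
        (by simpa [mul_assoc] using k)
      obtain ⟨m, rfl⟩ := r1
      rwa [pow_succ, pow_mul, sq, mul_mem_cancel_left (pow_mem this m)] at r3
  rcases hd with ⟨d1, d2⟩ | ⟨d1, d2⟩
  · obtain ⟨x, hx, x1, x2⟩ := h.exinv hb h2 d1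
    replace x1 : x ≠ 1 := by simpa [hF] using x1
    replace d2 := Nat.pow_le_pow_left d2 2
    have two : ∀ {e f : G}, e ∈ P → f ∈ P → e ≠ 1 → f ∉ zpowers e → e ∉ zpowers x → f ∉ zpowers x →
        Nat.card ↥(V ⊓ 𝐂[e]) * Nat.card ↥(V ⊓ 𝐂[f]) ≤ 16 := fun he hf k1 k2 k3 k4 => (le_two h.odd cV (h.expo x hx) x2
      (h.ind hF hP hc he hf k1 k2) (h.ind' hF hP hc he hx x1 k3) (h.ind' hF hP hc hf hx x1 k4)).trans d2
    have one : ∀ {e f : G}, e ∈ P → e ≠ 1 → f ∉ zpowers e → e ∈ zpowers x → f ∉ zpowers x := fun he k1 k2 k3 k4 =>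
      k2 (zpowers_le.2 (h.sym' hF hx he k1 k3) k4)
    have key : ∀ {e : G}, e ∈ P → e ≠ 1 → e ∉ zpowers x → Nat.card ↥(V ⊓ 𝐂[e]) = 2 ^ k → p = 3 ∨ p = 5 := fun {e} he k3 k4 k5 => by
      have i := h.ind' hF hP hc he hx x1 k4
      by_cases k6 : b * e * b⁻¹ ∈ zpowers e
      · obtain ⟨c, k7⟩ := sqr he hx k6 x2 i
        exact num h.prime k0 k2 (k5 ▸ (bound h.odd inf_le_left i.n2 (h.expo x hx) x2 i.bot).trans d2) (.inl (k5 ▸ k7))
      have := two he (conj_mem_of_norm hb he) k3 k6 k4 fun k7 => k4 (by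
        have := inv_zp x2 k7
        rw [show b * (b * e * b⁻¹) * b⁻¹ = b * b * e * (b * b)⁻¹ by group, h2, one_mul, inv_one, mul_one] at this
        exact this ▸ inv_mem k7)
      rw [card_conj_cent hb', k5] at this
      exact num (c := 0) h.prime k0 k2 (by nlinarith) (.inr (by nlinarith))
    refine (if k3 : e ∈ zpowers x then key ht' (c1 e1) (one he e1 e3 k3) ((card_conj_cent (hS ht) e).trans k1)
      else key he e1 k3 k1).imp_right fun p5 => ⟨p5, fun y hy hy' r r1 r2 r3 => by_contra fun r4 => ?_⟩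
    obtain ⟨t1, t2, t3⟩ := tri p5 y hy r r1 r2 r3 r4
    have := num5 k0 (p5 ▸ k2)
    have m1 := conj_mem_of_norm hy he
    have m2 := conj_mem_of_norm hy m1
    have q1 := (card_conj_cent hy' e).trans k1
    have q2 := (card_conj_cent hy' _).trans q1
    by_cases k3 : e ∈ zpowers x
    · have := two m1 m2 (c1 e1) t3 (one he e1 t1 k3) (one he e1 t2 k3)
      rw [q1, q2] at this
      nlinarith
    by_cases k4 : y * e * y⁻¹ ∈ zpowers x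
    · have := two he m2 e1 t2 k3 (one m1 (c1 e1) t3 k4)
      rw [k1, q2] at this
      nlinarith
    · have := two he m1 e1 t1 k3 k4
      rw [k1, q1] at this
      nlinarith
  replace d2 := Nat.pow_le_pow_left d2 2
  have i1 : ∀ {e f : G}, e ∈ P → f ∈ P → e ≠ 1 → f ∉ zpowers e → Ind V e (e * f) := fun he hf k1 k2 =>
    h.ind hF hP hc he (mul_mem he hf) k1 fun k => k2 ((mul_mem_cancel_left (mem_zpowers _)).1 k)
  have i2 : ∀ {e f g : G}, e ∈ P → f ∈ P → e ≠ 1 → f ∉ zpowers e → g ∈ zpowers f → Ind V f (e * g) := fun he hf k1 k2 k3 =>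
    h.ind hF hP hc hf (mul_mem he (zpowers_le.2 hf k3)) (fun k => k2 (k ▸ one_mem _)) fun k =>
      k2 (h.sym' hF hf he k1 ((mul_mem_cancel_right k3).1 k))
  have := (le_two h.odd cV (h.expo _ (mul_mem he ht')) (d1 _ (mul_mem he ht')) (h.ind hF hP hc he ht' e1 e3) (i1 he ht' e1 e3)
    (i2 he ht' e1 e3 (mem_zpowers _))).trans d2
  rw [card_conj_cent (hS ht), k1] at this
  obtain ⟨c, k7⟩ := sqr he (mul_mem he ht') (d1 e he ▸ inv_mem (mem_zpowers e)) (d1 _ (mul_mem he ht')) (i1 he ht' e1 e3)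
  refine (num h.prime k0 k2 (by nlinarith) (.inl (k1 ▸ k7))).imp_right fun p5 =>
    ⟨p5, fun y hy hy' r r1 r2 r3 => by_contra fun r4 => ?_⟩
  obtain ⟨t1, t2, t3⟩ := tri p5 y hy r r1 r2 r3 r4
  have := num5 k0 (p5 ▸ k2)
  have m1 := conj_mem_of_norm hy he
  have m2 := conj_mem_of_norm hy m1
  have q1 := (card_conj_cent hy' e).trans k1
  have q2 := (card_conj_cent hy' _).trans q1
  have key : ∀ g ∈ zpowers (y * e * y⁻¹), g ∉ zpowers e → e * g ∉ zpowers (y * (y * e * y⁻¹) * y⁻¹) → False := fun g g1 g2 g3 => by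
    have m3 := zpowers_le.2 m1 g1
    have := (le_three h.odd cV (h.expo _ (mul_mem he m3)) (d1 _ (mul_mem he m3)) (h.ind hF hP hc he m1 e1 t1)
      (h.ind hF hP hc he m2 e1 t2) (h.ind hF hP hc m1 m2 (c1 e1) t3) (.inr ⟨i1 he m3 e1 g2, i2 he m1 e1 t1 g1,
        h.ind hF hP hc m2 (mul_mem he m3) (c1 (c1 e1)) g3⟩)).trans d2
    rw [k1, q1, q2] at this
    nlinarith
  refine key _ (mem_zpowers _) t1 fun g1 => key _ (mul_mem (mem_zpowers _) (mem_zpowers _))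
    (fun k => t1 (mem_of_sq h.odd (h.expo _ m1) k)) fun g2 => t3 (h.sym' hF m2 m1 (c1 e1) ?_)
  rwa [← mul_assoc e, mul_mem_cancel_left g1] at g2

end PX

theorem PX.main (h : PX p S P) (hV : IsElementaryAbelian 2 V) (h0 : V ≠ ⊥) (hP : P ≤ 𝐍(V)) (hS : S ≤ 𝐍(V)) (hc : V ⊓ 𝐂(P) = ⊥)
    (hF : ⁅P, P⁆ = ⊥ ∨ V ⊓ 𝐂(⁅P, P⁆) = ⊥) (hB : B ≤ 𝐍(P)) (hB' : B ≤ 𝐍(V)) (hB0 : B ≠ ⊥) (h2 : ∀ b ∈ B, b * b = 1)
    (hBc : B ≤ 𝐂(B)) (hf : B ⊓ 𝐂(P) = ⊥) (hi : 𝐂(B).relIndex V ≤ Nat.card B ^ 2) :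
    p = 3 ∨ p = 5 ∧ ∀ y ∈ 𝐍(P), y ∈ 𝐍(V) → ∀ r, Odd r → r.Coprime 5 → y ^ r ∈ 𝐂(P) → y ∈ 𝐂(P) := by
  have d : ∀ b ∈ B, ∀ n, Nat.card B ≤ n → 𝐂[b].relIndex V ≤ n ^ 2 := fun b hb n hn =>
    ((relIndex_le_of_le_left (cent_le_cent1 hb) FiniteIndex.index_ne_zero).trans hi).trans (Nat.pow_le_pow_left hn 2)
  obtain ⟨b, hb, b1⟩ := exists_ne_one hB0
  have b2 : b ∉ 𝐂(P) := fun k => b1 (mem_bot.1 (hf.le ⟨hb, k⟩))
  by_cases k : ⁅P, P⁆ = ⊥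
  · rcases gl2 h.prime h.odd (comm_eq_bot_iff.1 k) h.expo (fun e he y hy k1 k2 => h.gen' he hy (by simpa [k] using k1)
      (by simpa [k] using k2)) hB h2 hBc hf with k1 | ⟨k1, a, ha, k2⟩
    · exact h.ab k hP hc hV h0 hS (hB hb) (hB' hb) (h2 b hb) (.inl ⟨b2, d b hb 2 k1⟩)
    · exact h.ab k hP hc hV h0 hS (hB ha) (hB' ha) (h2 a ha) (.inr ⟨k2, d a ha 4 k1⟩)
  · obtain ⟨x, hx, x1, x2⟩ := h.exinv (hB hb) (h2 b hb) b2
    exact .inl (h.nonab hV h0 hP k (hF.resolve_left k) hx x1 x2 (d b hb 4 (h.four hB h2 hBc hf)))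

end Cfsg.Lib.QX
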