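import Cfsg.Agent.Lib.QX.C
import Cfsg.Agent.Lib.PGroup.Holomorph

/-! Transport of the module lemma. -/

set_option autoImplicit false
set_option linter.unusedSectionVars false

namespace Cfsg.Lib.QX

open Cfsg Subgroup Cfsg.Lib.Transfer Cfsg.Lib.BG Cfsg.Lib.PGroup Cfsg.Lib.Loc
open scoped commutatorElement

variable {G Γ : Type*} [Group G] [Finite G] [Group Γ] [Finite Γ] {A B H N O S T U V W X : Subgroup G} {g x y : G} {n p : ℕ}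
  {f : H →* Γ}

/-- The image of a subgroup under a homomorphism defined on `H`. -/
def im (f : H →* Γ) (A : Subgroup G) : Subgroup Γ := (A.subgroupOf H).map f

theorem mem_im {y : Γ} : y ∈ im f A ↔ ∃ x : H, x.1 ∈ A ∧ f x = y := Iff.rfl

theorem im_mono (h : A ≤ B) : im f A ≤ im f B := map_mono (subgroupOf_mono H h)

theorem im_sup (hA : A ≤ H) (hB : B ≤ H) : im f (A ⊔ B) = im f A ⊔ im f B := by rw [im, subOf_sup hA hB, Subgroup.map_sup]; rfl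

theorem im_comm (hA : A ≤ H) (hB : B ≤ H) : im f ⁅A, B⁆ = ⁅im f A, im f B⁆ := by rw [im, subOf_comm hA hB, map_commutator]; rfl

theorem im_zp (x : H) : im f (zpowers x.1) = zpowers (f x) := by
  rw [← MonoidHom.map_zpowers, im, show zpowers x.1 = (zpowers x).map H.subtype from (MonoidHom.map_zpowers H.subtype x).symm,
    subgroupOf, comap_map_eq_self_of_injective H.subtype_injective]

theorem im_norm (h : A ≤ 𝐍(B)) : im f A ≤ 𝐍(im f B) := map_norm f (subOf_le_norm h H)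

theorem im_bot (h : ∀ x : H, x.1 ∈ A → f x = 1) : im f A = ⊥ := (Subgroup.map_eq_bot_iff _).2 h

theorem im_cent (hA : A ≤ H) {g : H} : f g ∈ 𝐂(im f A) ↔ ∀ x (hx : x ∈ A), f (g * ⟨x, hA hx⟩ * g⁻¹ * ⟨x, hA hx⟩⁻¹) = 1 := by
  simp only [map_mul, map_inv, mul_inv_eq_iff_eq_mul, one_mul]
  exact ⟨fun h x hx => (mem_cent.1 h _ ⟨⟨x, hA hx⟩, hx, rfl⟩).symm, fun h => mem_cent.2 (by
    rintro _ ⟨x, hx, rfl⟩; exact (h x hx).symm)⟩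

structure XJ (p : ℕ) (S X O : Subgroup G) : Prop where
  prime : p.Prime
  odd : Odd p
  le : O ≤ X
  expo : ∀ x ∈ X, x ^ p ∈ O
  ncyc : ∀ e ∈ X, ¬ X ≤ O ⊔ ⁅X, X⁆ ⊔ zpowers e
  gen : ∀ e ∈ X, ∀ y ∈ X, e ∉ O ⊔ ⁅X, X⁆ → y ∉ O ⊔ ⁅X, X⁆ ⊔ zpowers e → X ≤ O ⊔ ⁅X, X⁆ ⊔ zpowers e ⊔ zpowers y
  fz : ∀ z ∈ ⁅X, X⁆, z ∉ O → ⁅X, X⁆ ≤ O ⊔ zpowers z
  cen : ⁅⁅X, X⁆, X⁆ ≤ O
  norm : S ≤ 𝐍(X)
  dich : ∀ Y ≤ X, X ≤ 𝐍(Y) → S ≤ 𝐍(Y) → X ≤ Y ∨ Y ≤ O ⊔ ⁅X, X⁆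

theorem XJ.px (h : XJ p S X O) (hX : X ≤ H) (hS : S ≤ H) (hO : ∀ x : H, x.1 ∈ O → f x = 1)
    (hk : ∀ x : H, x.1 ∈ X → f x = 1 → x.1 ∈ O ⊔ ⁅X, X⁆) : PX p (im f S) (im f X) := by
  have l0 : O ⊔ ⁅X, X⁆ ≤ H := sup_le (h.le.trans hX) ((der_le X).trans hX)
  have eF : ⁅im f X, im f X⁆ = im f (O ⊔ ⁅X, X⁆) := by
    rw [im_sup (h.le.trans hX) ((der_le X).trans hX), im_bot hO, bot_sup_eq, im_comm hX hX]
  have eL : ∀ e : H, im f (O ⊔ ⁅X, X⁆) ⊔ zpowers (f e) = im f (O ⊔ ⁅X, X⁆ ⊔ zpowers e.1) := fun e => by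
    rw [im_sup l0 (zpowers_le.2 e.2), im_zp]
  refine ⟨h.prime, h.odd, ?_, ?_, ?_, ?_, ?_, im_norm h.norm, fun Y h1 h2 h3 => ?_⟩
  · rintro _ ⟨x, hx, rfl⟩
    exact (map_pow f x p).symm.trans (hO _ (h.expo x hx))
  · rintro _ ⟨e, he, rfl⟩ k
    refine h.ncyc e he fun x hx => ?_
    rw [eF, eL] at k
    obtain ⟨a, ha, k1⟩ := k (mem_im.2 ⟨⟨x, hX hx⟩, hx, rfl⟩)
    exact (mul_mem_cancel_left (inv_mem ha)).1 (mem_sup_left (hk (a⁻¹ * ⟨x, hX hx⟩) (mul_mem (inv_mem (sup_le (sup_le h.le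
      (der_le X)) (zpowers_le.2 he) ha)) hx) (by rw [map_mul, map_inv, k1, inv_mul_cancel])))
  · rintro _ ⟨e, he, rfl⟩ _ ⟨y, hy, rfl⟩ k1 k2
    rw [eF] at k1 ⊢
    rw [eF, eL] at k2
    rw [eL, ← im_zp, ← im_sup (sup_le l0 (zpowers_le.2 e.2)) (zpowers_le.2 y.2)]
    exact im_mono (h.gen e he y hy (fun k => k1 ⟨e, k, rfl⟩) fun k => k2 ⟨y, k, rfl⟩)
  · rw [← im_comm hX hX]
    rintro _ ⟨z, hz, rfl⟩ k
    refine (im_mono (h.fz z hz fun k' => k (hO z k'))).trans ?_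
    rw [im_sup (h.le.trans hX) (zpowers_le.2 z.2), im_bot hO, bot_sup_eq, im_zp]
  · rw [← comm_eq_bot_iff, ← im_comm hX hX, ← im_comm ((der_le X).trans hX) hX]
    exact im_bot fun x hx => hO x (h.cen hx)
  · have n : ∀ A ≤ H, A ≤ 𝐍(X) → im f A ≤ 𝐍(Y) → A ≤ 𝐍(X ⊓ (Y.comap f).map H.subtype) := fun A k1 k2 k3 =>
      norm_inf k2 ((subOf_map k1).ge.trans (map_norm _ ((le_comap_map f _).trans (comap_le_norm f k3))))
    refine (h.dich _ inf_le_left (n X hX (le_norm X) h2) (n S hS h.norm h3)).imp (fun k => ?_) fun k y hy => ?_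
    · rintro _ ⟨x, hx, rfl⟩
      obtain ⟨y, hy, e⟩ := (k hx).2
      rwa [← Subtype.ext e]
    · obtain ⟨x, hx, rfl⟩ := h1 hy
      exact eF ▸ mem_im.2 ⟨x, k ⟨hx, x, hy, rfl⟩, rfl⟩

/-- The action on `V` inside the holomorph. -/
noncomputable def hol (V : Subgroup G) : 𝐍(V) →* Hol V := (holR V).comp V.normalizerMonoidHom

theorem hol_one {g : 𝐍(V)} : hol V g = 1 ↔ g.1 ∈ 𝐂(V) := by
  rw [hol, MonoidHom.comp_apply, map_eq_one_iff _ holR_injective, ← MonoidHom.mem_ker, normalizerMonoidHom_ker, mem_subgroupOf]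

theorem hol_norm : im (hol V) A ≤ 𝐍((⊤ : Subgroup V).map (holL V)) := by
  rw [im, hol, ← map_map]
  exact map_holR_le_normalizer_top _

theorem hol_cent (hA : A ≤ 𝐍(V)) : 𝐂(im (hol V) A).comap (holL V) = 𝐂(A).subgroupOf V := by
  ext v
  rw [mem_comap, im, hol, ← map_map, holL_mem_centralizer_iff, mem_subgroupOf, mem_cent]
  exact ⟨fun h a ha => mul_inv_eq_iff_eq_mul.1 (congrArg Subtype.val (h _ ⟨⟨a, hA ha⟩, ha, rfl⟩)), fun h => by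
    rintro _ ⟨a, ha, rfl⟩; exact Subtype.ext (mul_inv_eq_iff_eq_mul.2 (h a ha))⟩

theorem hol_bot (hA : A ≤ 𝐍(V)) (h : V ⊓ 𝐂(A) = ⊥) : (⊤ : Subgroup V).map (holL V) ⊓ 𝐂(im (hol V) A) = ⊥ := by
  refine eq_bot_iff.2 ?_
  rintro _ ⟨⟨v, -, rfl⟩, k⟩
  rw [show v = 1 from Subtype.ext (mem_bot.1 (h.le ⟨v.2, (hol_cent hA).le k⟩)), map_one]
  exact one_mem _

theorem XJ.main (h : XJ p S X O) (hV : IsElementaryAbelian 2 V) (h0 : V ≠ ⊥) (hX : X ≤ 𝐍(V)) (hS : S ≤ 𝐍(V)) (hO : O ≤ 𝐂(V))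
    (hk : X ⊓ 𝐂(V) ≤ O ⊔ ⁅X, X⁆) (hc : V ⊓ 𝐂(X) = ⊥) (hF : ⁅X, X⁆ ≤ 𝐂(V) ∨ V ⊓ 𝐂(⁅X, X⁆) = ⊥) (hB : B ≤ 𝐍(X)) (hB' : B ≤ 𝐍(V))
    (hI : InducesElemAbelianTwoGroupOn B V) (hf : ∀ b ∈ B, (∀ x ∈ X, b * x * b⁻¹ * x⁻¹ ∈ 𝐂(V)) → b ∈ 𝐂(V))
    (hi : (V ⊓ 𝐂(B)).relIndex V ≤ 𝐂(V).relIndex B ^ 2) :
    p = 3 ∨ p = 5 ∧ ∀ y ∈ 𝐍(X), y ∈ 𝐍(V) → ∀ r, Odd r → r.Coprime 5 → (∀ x ∈ X, y ^ r * x * (y ^ r)⁻¹ * x⁻¹ ∈ 𝐂(V)) →
      ∀ x ∈ X, y * x * y⁻¹ * x⁻¹ ∈ 𝐂(V) := by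
  refine ((h.px (f := hol V) hX hS (fun x hx => hol_one.2 (hO hx)) fun x hx k => hk ⟨hx, hol_one.1 k⟩).main
    (V := (⊤ : Subgroup V).map (holL V)) (B := im (hol V) B) ⟨abelian_map _ (by have := hV.1; infer_instance), ?_⟩ ?_ hol_norm hol_norm
    (hol_bot hX hc) (im_comm (f := hol V) hX hX ▸ hF.imp (fun k => im_bot fun x hx => hol_one.2 (k hx))
      (hol_bot ((der_le X).trans hX))) (im_norm hB) hol_norm (fun k => hI.1 fun b hb => hol_one.1 (mem_bot.1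
        (k.le (mem_im.2 ⟨⟨b, hB' hb⟩, hb, rfl⟩)))) ?_ ?_ (eq_bot_iff.2 ?_) ?_).imp_right fun ⟨p5, k⟩ =>
    ⟨p5, fun y hy hy' r r1 r2 r3 x hx => hol_one.1 ((im_cent hX).1 (k (hol V ⟨y, hy'⟩) (zpowers_le.1 (im_zp (f := hol V) ⟨y, hy'⟩ ▸
      im_norm (zpowers_le.2 hy))) (zpowers_le.1 (im_zp (f := hol V) ⟨y, hy'⟩ ▸ hol_norm)) r r1 r2
      (map_pow (hol V) _ r ▸ (im_cent hX).2 fun x hx => hol_one.2 (r3 x hx))) x hx)⟩
  · rintro _ ⟨v, -, rfl⟩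
    rw [← map_pow, show v ^ 2 = 1 from Subtype.ext (hV.2 v v.2), map_one]
  · exact fun k => h0 (card_eq_one.1 (by rw [← card_top, ← card_map_holL, k, card_bot]))
  · rintro _ ⟨b, hb, rfl⟩
    exact (map_mul _ _ _).symm.trans (hol_one.2 ((sq b.1).symm ▸ hI.2.1 b hb : b.1 * b.1 ∈ _))
  · rintro _ ⟨b, hb, rfl⟩
    exact (im_cent hB').2 fun x hx => hol_one.2 (hI.2.2 b hb x hx)
  · rintro _ ⟨⟨b, hb, rfl⟩, k⟩
    exact mem_bot.2 (hol_one.2 (hf b hb fun x hx => hol_one.1 ((im_cent hX).1 k x hx)))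
  · rw [← relIndex_comap, hol_cent hB', relIndex_top_right, im, ← relIndex_ker,
      show (hol V).ker = 𝐂(V).subgroupOf 𝐍(V) from Subgroup.ext fun _ => hol_one, relIndex_subgroupOf hB']
    rwa [inf_relIndex_left] at hi

theorem exists_gen (hp : p.Prime) (h : A ≤ X) (hd : A.relIndex X ∣ p) : ∃ x ∈ X, X ≤ A ⊔ zpowers x := by
  rcases (Nat.dvd_prime hp).1 hd with e | e
  · exact ⟨1, one_mem _, (relIndex_eq_one.1 e).trans le_sup_left⟩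
  obtain ⟨x, hx, k⟩ := SetLike.not_le_iff_exists.1 (mt relIndex_eq_one.2 (e ▸ hp.ne_one) : ¬ X ≤ A)
  exact ⟨x, hx, (sup_eq_of_relIndex_prime hp h e (zpowers_le.2 hx) (mt zpowers_le.1 k)).ge⟩

theorem xj (h : X ∈ Xi T) : ∃ p, XJ p T X (pCoreOf 2 X) ∧ IsPGroup p (X ⧸ pCore 2 X) := by
  obtain ⟨q, F, hq, xi⟩ := QT.xi_of_mem h
  obtain ⟨-, -, -, ⟨p, hp, hp2, h3⟩, -⟩ := h
  have := Fact.mk hp
  have hP : IsPGroup p (X ⧸ pCore 2 X) := h3.elim (fun h => .of_card h.1) fun h => .of_card h.1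
  have nO := le_normalizer_core 2 X
  have oF : pCoreOf 2 X ≤ F := (xi.dich _ (core_le 2 X) nO (xi.norm.trans (normalizer_le_normalizer_core 2 X))).resolve_left
    fun k => xi.ncyc 1 (one_mem _) (xi.res.ge.trans ((res_eq_bot_iff.2 ((core_pgroup 2 X).to_le k)).le.trans bot_le))
  have l0 : pCoreOf 2 X ⊔ ⁅X, X⁆ ≤ F := sup_le oF xi.der
  have ex : ∀ x ∈ X, ∀ n, n.Coprime p → x ^ n = 1 → x ∈ pCoreOf 2 X := fun x hx n k1 k2 => by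
    obtain ⟨k, e⟩ := hP (⟨x, hx⟩ : X)
    refine mem_map_of_mem X.subtype ((QuotientGroup.eq_one_iff (⟨x, hx⟩ : X)).1 ?_)
    have := pow_gcd_eq_one.2 ⟨(show ((⟨x, hx⟩ : X) : X ⧸ pCore 2 X) ^ n = 1 by
      rw [← QuotientGroup.mk_pow, show (⟨x, hx⟩ : X) ^ n = 1 from Subtype.ext k2, QuotientGroup.mk_one]), e⟩
    rwa [k1.pow_right k, pow_one] at this
  have c2 : ∀ k, (2 ^ k).Coprime p := fun k => ((Nat.coprime_primes Nat.prime_two hp).2 hp2.symm).pow_left k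
  obtain rfl : q = p := by_contra fun e => xi.ncyc 1 (one_mem _) fun x hx => mem_sup_left (oF (let ⟨k, e'⟩ := xi.expo x hx
    ex x hx _ (((Nat.coprime_primes hq hp).2 e).mul_left (c2 k)) ((pow_mul x q _).trans e')))
  have e0 : (pCoreOf 2 X).relIndex X = Nat.card (X ⧸ pCore 2 X) := by rw [relIndex, core_subgroupOf_self]; rfl
  have e1 := relIndex_mul_relIndex _ _ _ (le_sup_left : _ ≤ pCoreOf 2 X ⊔ ⁅X, X⁆) (l0.trans xi.le)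
  have nc : ∀ A ≤ F, ¬ A.relIndex X ∣ q := fun A hA k => let ⟨x, hx, k⟩ := exists_gen hp (hA.trans xi.le) k
    xi.ncyc x hx (k.trans (sup_le_sup_right hA _))
  have sq : ∀ n, n ∣ q ^ 2 → ¬ n ∣ q → n = q ^ 2 := fun n k1 k2 => by
    obtain ⟨k, k3, rfl⟩ := (Nat.dvd_prime_pow hp).1 k1
    interval_cases k <;> simp_all
  have e2 : (pCoreOf 2 X ⊔ ⁅X, X⁆).relIndex X = q ^ 2 ∧ (pCoreOf 2 X).relIndex (pCoreOf 2 X ⊔ ⁅X, X⁆) ∣ q := by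
    rw [e0] at e1
    rcases h3 with ⟨k, -⟩ | ⟨k, k'⟩
    · have := sq _ (Dvd.intro_left _ (e1.trans k)) (nc _ l0)
      rw [this, k] at e1
      exact ⟨this, by rw [Nat.eq_of_mul_eq_mul_right (pow_pos hp.pos 2) (e1.trans (one_mul _).symm)]; exact one_dvd _⟩
    obtain ⟨j, -, k1⟩ := (Nat.dvd_prime_pow hp).1 (Dvd.intro _ (e1.trans k))
    obtain _ | j := j
    · refine (k' ⟨⟨fun a b => ?_⟩⟩).elim
      obtain ⟨a, rfl⟩ := QuotientGroup.mk_surjective a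
      obtain ⟨b, rfl⟩ := QuotientGroup.mk_surjective b
      refine (QuotientGroup.eq.2 (core_subgroupOf_self X ▸ mem_subgroupOf.2 (relIndex_eq_one.1 k1 (mem_sup_right ?_))))
      simpa [mul_assoc] using comm_mem_comm (inv_mem b.2) (inv_mem a.2)
    have := sq ((pCoreOf 2 X ⊔ ⁅X, X⁆).relIndex X) (Nat.dvd_of_mul_dvd_mul_left hp.pos (by
      rw [← pow_succ', ← k, ← e1, k1]; exact mul_dvd_mul_right (dvd_pow_self q (by omega)) _)) (nc _ l0)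
    rw [this, k, pow_succ' q 2] at e1
    exact ⟨this, (Nat.eq_of_mul_eq_mul_right (pow_pos hp.pos 2) e1).dvd⟩
  have eF : F = pCoreOf 2 X ⊔ ⁅X, X⁆ := by
    have k := relIndex_mul_relIndex _ _ _ l0 xi.le
    rw [e2.1] at k
    rw [sq _ (Dvd.intro_left _ k) (nc _ le_rfl)] at k
    exact le_antisymm (relIndex_eq_one.1 (Nat.eq_of_mul_eq_mul_right (pow_pos hp.pos 2) (k.trans (one_mul _).symm))) l0
  have ep : ∀ x ∈ X, x ^ q ∈ pCoreOf 2 X := fun x hx => let ⟨k, e⟩ := xi.expo x hx; ex _ (pow_mem hx q) _ (c2 k) e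
  refine ⟨q, ⟨hp, hp.odd_of_ne_two hp2, core_le 2 X, ep, eF ▸ xi.ncyc, eF ▸ fun e he y hy k1 k2 => ?_, fun z hz k => ?_, ?_, xi.norm,
    eF ▸ xi.dich⟩, hP⟩
  · have l1 := sup_le xi.le (zpowers_le.2 he)
    have k := relIndex_mul_relIndex _ _ _ (le_sup_left : F ≤ F ⊔ zpowers e) l1
    rw [show F.relIndex X = q ^ 2 from eF ▸ e2.1] at k
    refine (sup_eq_of_relIndex_prime hp l1 (((Nat.dvd_prime hp).1 (by_contra fun k3 => k1 ?_)).resolve_left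
      fun k3 => xi.ncyc e he (relIndex_eq_one.1 k3)) (zpowers_le.2 hy) (mt zpowers_le.1 k2)).ge
    rw [sq _ (Dvd.intro_left _ k) k3] at k
    exact relIndex_eq_one.1 (Nat.eq_of_mul_eq_mul_right (pow_pos hp.pos 2) (k.trans (one_mul _).symm)) (mem_sup_right (mem_zpowers e))
  · exact le_sup_right.trans (sup_eq_of_relIndex_prime hp le_sup_left (((Nat.dvd_prime hp).1 e2.2).resolve_left fun k1 =>
      k (relIndex_eq_one.1 k1 (mem_sup_right hz))) (zpowers_le.2 (mem_sup_right hz)) (mt zpowers_le.1 k)).ge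
  · refine (quo_le_cent_iff ((der_le X).trans nO) nO).1 (QT.le_cent_of_card_le (p := q) (fun ⟨_, x, hx, rfl⟩ => ⟨1, Subtype.ext ?_⟩)
      ((Nml.der_self X).quo _) ?_)
    · rw [pow_one]
      exact (map_pow _ x q).symm.trans ((QuotientGroup.eq_one_iff _).2 (ep x hx))
    · rw [card_quo ((der_le X).trans nO), ← Coprime.relIndex_sup_of_le_normalizer ((der_le X).trans nO)]
      exact Nat.le_of_dvd hp.pos e2.2

end Cfsg.Lib.QX
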